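import Groth.Agent.FlatLib.Nagata
import Groth.Agent.CommAlgDim.Integral

/-!
# Noether normalization adapted to a chain of ideals
-/

set_option autoImplicit false

universe u

open MvPolynomial

namespace NormChainLib

variable {k : Type u} [Field k]

/-- The ideal of the first `h` variables. -/
noncomputable def J (k : Type u) [Field k] (d h : ℕ) : Ideal (MvPolynomial (Fin d) k) :=
  Ideal.span (X '' {l : Fin d | (l : ℕ) < h})

/-- Setting the first `h` variables to zero. -/
noncomputable def proj (k : Type u) [Field k] (d h : ℕ) : MvPolynomial (Fin d) k →ₐ[k] MvPolynomial (Fin d) k :=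
  aeval fun l => if (l : ℕ) < h then 0 else X l

/-- The quotient by the first `h` variables, as a polynomial ring. -/
noncomputable def down (k : Type u) [Field k] (d h : ℕ) : MvPolynomial (Fin d) k →ₐ[k] MvPolynomial (Fin (d - h)) k :=
  aeval fun l => if hl : (l : ℕ) < h then 0 else X ⟨l.1 - h, by omega⟩

/-- The inclusion of the last variables. -/
noncomputable def up (k : Type u) [Field k] (d h : ℕ) : MvPolynomial (Fin (d - h)) k →ₐ[k] MvPolynomial (Fin d) k :=
  rename fun j => ⟨j.1 + h, by omega⟩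

theorem down_up {d h : ℕ} (g : MvPolynomial (Fin (d - h)) k) : down k d h (up k d h g) = g :=
  AlgHom.congr_fun (φ₁ := (down k d h).comp (up k d h)) (φ₂ := AlgHom.id k _) (algHom_ext fun j => by
    simp [down, up]) g

theorem up_down {d h : ℕ} (g : MvPolynomial (Fin d) k) : up k d h (down k d h g) = proj k d h g :=
  AlgHom.congr_fun (φ₁ := (up k d h).comp (down k d h)) (φ₂ := proj k d h) (algHom_ext fun l => by
    by_cases hl : (l : ℕ) < h
    · simp [down, proj, hl]
    · simp only [AlgHom.comp_apply, down, proj, aeval_X, dif_neg hl, if_neg hl, up, rename_X]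
      congr 1
      exact Fin.ext (by simp; omega)) g

theorem sub_proj_mem {d h : ℕ} (g : MvPolynomial (Fin d) k) : g - proj k d h g ∈ J k d h := by
  induction g using MvPolynomial.induction_on with
  | C a => simp [proj]
  | add p q hp hq => rw [map_add, add_sub_add_comm]; exact Ideal.add_mem _ hp hq
  | mul_X p i hp =>
    have hi : X i - proj k d h (X i) ∈ J k d h := by
      rw [proj, aeval_X]
      split_ifs with hh
      · rw [sub_zero]; exact Ideal.subset_span ⟨i, hh, rfl⟩
      · rw [sub_self]; exact Ideal.zero_mem _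
    rw [map_mul, show p * X i - proj k d h p * proj k d h (X i) =
      (p - proj k d h p) * X i + proj k d h p * (X i - proj k d h (X i)) by ring]
    exact Ideal.add_mem _ (Ideal.mul_mem_right _ _ hp) (Ideal.mul_mem_left _ _ hi)

theorem mem_J_iff {d h : ℕ} (g : MvPolynomial (Fin d) k) : g ∈ J k d h ↔ proj k d h g = 0 := by
  refine ⟨fun hg => ?_, fun hg => by simpa [hg] using sub_proj_mem (h := h) g⟩
  have : J k d h ≤ RingHom.ker (proj k d h) := by
    refine Ideal.span_le.2 ?_
    rintro _ ⟨l, hl, rfl⟩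
    simp [RingHom.mem_ker, proj, show (l : ℕ) < h from hl]
  exact this hg

theorem ker_down (d h : ℕ) : RingHom.ker (down k d h) = J k d h := by
  ext g
  rw [RingHom.mem_ker, mem_J_iff, ← up_down]
  refine ⟨fun e => by rw [e, map_zero], fun e => ?_⟩
  rw [← down_up (down k d h g), e, map_zero]

theorem down_surjective (d h : ℕ) : Function.Surjective (down k d h) := fun g => ⟨_, down_up g⟩

instance isPrime_J (d h : ℕ) : (J k d h).IsPrime := ker_down (k := k) d h ▸ RingHom.ker_isPrime _

/-- The quotient by the first variables. -/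
noncomputable def quotEquiv (k : Type u) [Field k] (d h : ℕ) : (MvPolynomial (Fin d) k ⧸ J k d h) ≃+* MvPolynomial (Fin (d - h)) k :=
  (Ideal.quotEquivOfEq (ker_down (k := k) d h).symm).trans (RingHom.quotientKerEquivOfSurjective (down_surjective d h))

theorem ringKrullDim_quot_J (d h : ℕ) : ringKrullDim (MvPolynomial (Fin d) k ⧸ J k d h) = ((d - h : ℕ) : WithBot ℕ∞) := by
  rw [ringKrullDim_eq_of_ringEquiv (quotEquiv k d h), MvPolynomial.ringKrullDim_of_isNoetherianRing]
  simp

instance isIntegrallyClosed_quot_J (d h : ℕ) : IsIntegrallyClosed (MvPolynomial (Fin d) k ⧸ J k d h) :=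
  IsIntegrallyClosed.of_equiv (quotEquiv k d h).symm

theorem J_zero (d : ℕ) : J k d 0 = ⊥ := by simp [J]

theorem J_mono {d h h' : ℕ} (hh : h ≤ h') : J k d h ≤ J k d h' :=
  Ideal.span_mono (Set.image_mono fun _ hl => lt_of_lt_of_le hl hh)

theorem J_lt {d h : ℕ} (hd : h < d) : J k d h < J k d (h + 1) := by
  refine lt_of_le_of_ne (J_mono (Nat.le_succ h)) fun e => ?_
  have hm : (X ⟨h, hd⟩ : MvPolynomial (Fin d) k) ∈ J k d h := e ▸ Ideal.subset_span ⟨⟨h, hd⟩, Nat.lt_succ_self h, rfl⟩
  simp [mem_J_iff, proj] at hm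

theorem injective_of_integral {d : ℕ} (ψ : MvPolynomial (Fin d) k →ₐ[k] MvPolynomial (Fin d) k) (h : ψ.toRingHom.IsIntegral) :
    Function.Injective ψ := by
  rw [injective_iff_map_eq_zero]
  intro f hf
  by_contra hne
  let I := RingHom.ker ψ.toRingHom
  letI : Algebra (MvPolynomial (Fin d) k ⧸ I) (MvPolynomial (Fin d) k) := (RingHom.kerLift ψ.toRingHom).toAlgebra
  haveI : Algebra.IsIntegral (MvPolynomial (Fin d) k ⧸ I) (MvPolynomial (Fin d) k) :=
    ⟨fun x => by
      obtain ⟨p, hp, hx⟩ := h x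
      refine ⟨p.map (Ideal.Quotient.mk I), hp.map _, ?_⟩
      rw [Polynomial.eval₂_map]
      exact hx⟩
  have h1 := CommAlgDim.ringKrullDim_eq_of_integral (MvPolynomial (Fin d) k ⧸ I) (MvPolynomial (Fin d) k)
    (RingHom.kerLift_injective ψ.toRingHom)
  have h2 := ringKrullDim_quotient_succ_le_of_nonZeroDivisor (mem_nonZeroDivisors_of_ne_zero hne)
  have h3 : ringKrullDim (MvPolynomial (Fin d) k ⧸ I) ≤ ringKrullDim (MvPolynomial (Fin d) k ⧸ Ideal.span {f}) :=
    ringKrullDim_le_of_surjective (Ideal.Quotient.factor ((Ideal.span_singleton_le_iff_mem (I := I)).2 hf))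
      (Ideal.Quotient.factor_surjective _)
  rw [← h1] at h3
  have h4 := le_trans (add_le_add h3 le_rfl) h2
  rw [MvPolynomial.ringKrullDim_of_isNoetherianRing, ringKrullDim_eq_zero_of_field, zero_add, Nat.card_fin] at h4
  have h5 : ((d + 1 : ℕ) : WithBot ℕ∞) ≤ (d : ℕ) := by exact_mod_cast h4
  have h6 : d + 1 ≤ d := by exact_mod_cast h5
  omega

theorem isIntegral_of_X {d e : ℕ} (ψ : MvPolynomial (Fin d) k →ₐ[k] MvPolynomial (Fin e) k)
    (h : ∀ i, ψ.toRingHom.IsIntegralElem (X i)) : ψ.toRingHom.IsIntegral := by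
  intro x
  induction x using MvPolynomial.induction_on with
  | C a =>
    have : ψ.toRingHom (C a) = C a := ψ.commutes a
    rw [← this]
    exact ψ.toRingHom.isIntegralElem_map
  | add p q hp hq => exact hp.add _ hq
  | mul_X p i hp => exact hp.mul _ (h i)

theorem eval₂_finSuccEquiv {d : ℕ} (g : MvPolynomial (Fin (d + 1)) k) :
    (finSuccEquiv k d g).eval₂ (rename Fin.succ : MvPolynomial (Fin d) k →ₐ[k] _).toRingHom (X 0) = g := by
  have : ((Polynomial.eval₂RingHom (rename Fin.succ : MvPolynomial (Fin d) k →ₐ[k] _).toRingHom (X 0)).comp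
      (finSuccEquiv k d).toRingEquiv.toRingHom) = RingHom.id (MvPolynomial (Fin (d + 1)) k) := by
    refine ringHom_ext (fun r => ?_) fun i => ?_
    · simp [finSuccEquiv_apply]
    · refine Fin.cases ?_ (fun j => ?_) i <;> simp [finSuccEquiv_X_zero, finSuccEquiv_X_succ]
  exact RingHom.congr_fun this g

theorem exists_X_zero_eq {d : ℕ} {f : MvPolynomial (Fin (d + 1)) k} (hf : f ≠ 0) (hu : ¬ IsUnit f) :
    ∃ ψ : MvPolynomial (Fin (d + 1)) k →ₐ[k] MvPolynomial (Fin (d + 1)) k, ψ.toRingHom.IsIntegral ∧ ψ (X 0) = f := by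
  obtain ⟨e, c, hc, hlead⟩ := FlatLib.Nagata.exists_leadingCoeff_eq_C f hf
  let F := finSuccEquiv k d (e f)
  have hpos : 0 < F.natDegree := by
    by_contra h0
    have hF : F = Polynomial.C (C c) := by
      rw [Polynomial.eq_C_of_natDegree_eq_zero (Nat.eq_zero_of_not_pos h0), ← hlead, Polynomial.leadingCoeff,
        Nat.eq_zero_of_not_pos h0]
    apply hu
    have h1 : e f = C c := by
      rw [← eval₂_finSuccEquiv (e f)]
      show F.eval₂ _ _ = _
      rw [hF, Polynomial.eval₂_C]
      simp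
    rw [← e.symm_apply_apply f, h1]
    exact (hc.isUnit.map C).map e.symm
  let ψ' : MvPolynomial (Fin (d + 1)) k →ₐ[k] MvPolynomial (Fin (d + 1)) k := aeval (Fin.cases (e f) fun j => X j.succ)
  have hψ' : ∀ g : MvPolynomial (Fin d) k, ψ' (rename Fin.succ g) = rename Fin.succ g := fun g =>
    AlgHom.congr_fun (φ₁ := ψ'.comp (rename Fin.succ)) (φ₂ := rename Fin.succ) (algHom_ext fun j => by simp [ψ']) g
  have hint : ψ'.toRingHom.IsIntegral := by
    refine isIntegral_of_X ψ' (Fin.cases ?_ fun j => ?_)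
    · let q : Polynomial (MvPolynomial (Fin (d + 1)) k) :=
        Polynomial.C (C c⁻¹) * F.map (rename Fin.succ : MvPolynomial (Fin d) k →ₐ[k] _).toRingHom
      have hdeg : (F.map (rename Fin.succ : MvPolynomial (Fin d) k →ₐ[k] MvPolynomial (Fin (d + 1)) k).toRingHom).natDegree = F.natDegree :=
        Polynomial.natDegree_map_eq_of_injective (rename_injective _ (Fin.succ_injective _)) F
      have hq : q.Monic := by
        rw [Polynomial.Monic, Polynomial.leadingCoeff_mul, Polynomial.leadingCoeff_C,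
          Polynomial.leadingCoeff_map_of_injective (rename_injective _ (Fin.succ_injective _)), show F.leadingCoeff = C c from hlead]
        show C c⁻¹ * rename Fin.succ (C c) = 1
        rw [rename_C, ← map_mul, inv_mul_cancel₀ hc, map_one]
      have hqdeg : q.natDegree = F.natDegree := by
        rw [Polynomial.natDegree_C_mul (by simpa using inv_ne_zero hc), hdeg]
      refine ⟨q - Polynomial.C (C c⁻¹ * X 0), hq.sub_of_left (lt_of_le_of_lt Polynomial.degree_C_le ?_), ?_⟩
      · rw [Polynomial.degree_eq_natDegree hq.ne_zero, hqdeg]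
        exact_mod_cast hpos
      · simp only [q, Polynomial.eval₂_sub, Polynomial.eval₂_mul, Polynomial.eval₂_C, Polynomial.eval₂_map]
        have hC : ψ'.toRingHom (C c⁻¹) = C c⁻¹ := ψ'.commutes _
        have hcomp : ψ'.toRingHom.comp (rename Fin.succ : MvPolynomial (Fin d) k →ₐ[k] _).toRingHom =
            (rename Fin.succ : MvPolynomial (Fin d) k →ₐ[k] _).toRingHom := RingHom.ext hψ'
        rw [hcomp, eval₂_finSuccEquiv, map_mul, hC, show ψ'.toRingHom (X 0) = e f from by simp [ψ'], sub_self]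
    · have : ψ'.toRingHom (X j.succ) = X j.succ := by simp [ψ']
      have h2 := ψ'.toRingHom.isIntegralElem_map (x := X j.succ)
      rwa [this] at h2
  refine ⟨e.symm.toAlgHom.comp ψ', RingHom.IsIntegral.trans _ _ hint (RingHom.isIntegral_of_surjective _ e.symm.surjective), ?_⟩
  simp [ψ']

theorem exists_adapted : ∀ (d : ℕ) {r : ℕ} (I : Fin r → Ideal (MvPolynomial (Fin d) k)), Monotone I → (∀ i, I i ≠ ⊤) →
    ∃ (ψ : MvPolynomial (Fin d) k →ₐ[k] MvPolynomial (Fin d) k) (h : Fin r → ℕ), ψ.toRingHom.IsIntegral ∧ (∀ i, h i ≤ d) ∧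
      ∀ i, (I i).comap ψ = J k d (h i) := by
  intro d
  induction d with
  | zero =>
    intro r I _ hI
    refine ⟨AlgHom.id k _, fun _ => 0, fun x => RingHom.isIntegralElem_map _ (x := x), fun _ => le_rfl, fun i => ?_⟩
    rw [J_zero, eq_bot_iff]
    intro g hg
    rw [Ideal.mem_bot]
    by_contra hne
    rw [eq_C_of_isEmpty g] at hne
    refine hI i (Ideal.eq_top_of_isUnit_mem _ hg ?_)
    rw [eq_C_of_isEmpty g]
    exact IsUnit.map C (IsUnit.mk0 _ fun h0 => hne (by rw [h0, map_zero]))
  | succ d ih =>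
    intro r I hmono hI
    classical
    by_cases hall : ∀ i, I i = ⊥
    · refine ⟨AlgHom.id k _, fun _ => 0, fun x => RingHom.isIntegralElem_map _ (x := x), fun _ => Nat.zero_le _, fun i => ?_⟩
      rw [J_zero, hall i]
      exact Ideal.comap_id _
    push Not at hall
    let s : Finset (Fin r) := Finset.univ.filter fun i => I i ≠ ⊥
    have hs : s.Nonempty := by
      obtain ⟨i, hi⟩ := hall
      exact ⟨i, Finset.mem_filter.2 ⟨Finset.mem_univ _, hi⟩⟩
    let j := s.min' hs
    have hj : I j ≠ ⊥ := (Finset.mem_filter.1 (s.min'_mem hs)).2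
    have hlow : ∀ i, i < j → I i = ⊥ := fun i hi => by
      by_contra hne
      exact absurd (s.min'_le i (Finset.mem_filter.2 ⟨Finset.mem_univ _, hne⟩)) (not_le.2 hi)
    obtain ⟨f, hfj, hf⟩ := Submodule.exists_mem_ne_zero_of_ne_bot hj
    obtain ⟨ψ₁, hψ₁, hψ₁f⟩ := exists_X_zero_eq hf fun hu => hI j (Ideal.eq_top_of_isUnit_mem _ hfj hu)
    obtain ⟨ψ', h', hψ', hh', hcomap⟩ := ih (fun i => (I i).comap (ψ₁.comp (rename Fin.succ)))
      (fun a b hab => Ideal.comap_mono (hmono hab)) fun i => Ideal.comap_ne_top _ (hI i)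
    let ψ₂ : MvPolynomial (Fin (d + 1)) k →ₐ[k] MvPolynomial (Fin (d + 1)) k :=
      aeval (Fin.cases (X 0) fun l => rename Fin.succ (ψ' (X l)))
    have hψ₂ : ∀ g, ψ₂ (rename Fin.succ g) = rename Fin.succ (ψ' g) := fun g =>
      AlgHom.congr_fun (φ₁ := ψ₂.comp (rename Fin.succ)) (φ₂ := (rename Fin.succ).comp ψ') (algHom_ext fun l => by simp [ψ₂]) g
    have hint₂ : ψ₂.toRingHom.IsIntegral := by
      refine isIntegral_of_X ψ₂ (Fin.cases ?_ fun l => ?_)
      · have : ψ₂.toRingHom (X 0) = X 0 := by simp [ψ₂]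
        have h2 := ψ₂.toRingHom.isIntegralElem_map (x := X 0)
        rwa [this] at h2
      · obtain ⟨p, hp, hpx⟩ := hψ' (X l)
        refine ⟨p.map (rename Fin.succ : MvPolynomial (Fin d) k →ₐ[k] _).toRingHom, hp.map _, ?_⟩
        rw [Polynomial.eval₂_map, show ψ₂.toRingHom.comp (rename Fin.succ : MvPolynomial (Fin d) k →ₐ[k] MvPolynomial (Fin (d + 1)) k).toRingHom =
          (rename Fin.succ : MvPolynomial (Fin d) k →ₐ[k] MvPolynomial (Fin (d + 1)) k).toRingHom.comp ψ'.toRingHom from RingHom.ext hψ₂,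
          show (X l.succ : MvPolynomial (Fin (d + 1)) k) = (rename Fin.succ : MvPolynomial (Fin d) k →ₐ[k] _).toRingHom (X l) from (rename_X _ _).symm,
          ← Polynomial.hom_eval₂, hpx, map_zero]
    have hint : (ψ₁.comp ψ₂).toRingHom.IsIntegral := RingHom.IsIntegral.trans _ _ hint₂ hψ₁
    refine ⟨ψ₁.comp ψ₂, fun i => if i < j then 0 else h' i + 1, hint, fun i => ?_, fun i => ?_⟩
    · simp only
      split_ifs
      · exact Nat.zero_le _
      · exact Nat.succ_le_succ (hh' i)
    simp only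
    split_ifs with hij
    · rw [J_zero, hlow i hij, eq_bot_iff]
      intro g hg
      rw [Ideal.mem_comap, Ideal.mem_bot] at hg
      exact (Submodule.mem_bot _).2 (injective_of_integral _ hint (hg.trans (map_zero _).symm))
    · have hfi : f ∈ I i := hmono (not_lt.1 hij) hfj
      let σ : MvPolynomial (Fin (d + 1)) k →ₐ[k] MvPolynomial (Fin d) k := aeval (Fin.cases 0 X)
      have hσ : ∀ g, X 0 ∣ g - rename Fin.succ (σ g) := by
        intro g
        induction g using MvPolynomial.induction_on with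
        | C a => simp [σ]
        | add p q hp hq => rw [map_add, map_add, add_sub_add_comm]; exact dvd_add hp hq
        | mul_X p l hp =>
          rw [map_mul, map_mul, show p * X l - rename Fin.succ (σ p) * rename Fin.succ (σ (X l)) =
            (p - rename Fin.succ (σ p)) * X l + rename Fin.succ (σ p) * (X l - rename Fin.succ (σ (X l))) by ring]
          refine dvd_add (dvd_mul_of_dvd_left hp _) (dvd_mul_of_dvd_right ?_ _)
          refine Fin.cases ?_ (fun a => ?_) l <;> simp [σ]
      ext g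
      obtain ⟨a, ha⟩ := hσ g
      rw [Ideal.mem_comap, AlgHom.comp_apply, show g = X 0 * a + rename Fin.succ (σ g) by rw [← ha]; ring, map_add, map_mul, hψ₂,
        map_add, map_mul, show ψ₂ (X 0) = X 0 by simp [ψ₂], hψ₁f, Ideal.add_mem_iff_right _ (Ideal.mul_mem_right _ _ hfi)]
      have key : ψ₁ (rename Fin.succ (ψ' (σ g))) ∈ I i ↔ σ g ∈ J k d (h' i) := by rw [← hcomap i]; rfl
      rw [key, mem_J_iff, mem_J_iff]
      have hp : ∀ x, proj k (d + 1) (h' i + 1) x = rename Fin.succ (proj k d (h' i) (σ x)) := fun x =>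
        AlgHom.congr_fun (φ₁ := proj k (d + 1) (h' i + 1)) (φ₂ := (rename Fin.succ).comp ((proj k d (h' i)).comp σ))
          (algHom_ext fun l => by
            refine Fin.cases ?_ (fun b => ?_) l
            · simp [proj, σ]
            · simp [proj, σ]
              split_ifs <;> simp) x
      rw [← show g = X 0 * a + rename Fin.succ (σ g) by rw [← ha]; ring, hp]
      exact ⟨fun e => by rw [e, map_zero], fun e => rename_injective _ (Fin.succ_injective _) (e.trans (map_zero _).symm)⟩

/-- Going down inside the quotient by a prime. -/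
theorem exists_between {R S : Type u} [CommRing R] [CommRing S] (φ : R →+* S) (hφ : φ.IsIntegral)
    (I : Ideal S) [I.IsPrime] [IsIntegrallyClosed (R ⧸ I.comap φ)] (p : Ideal R) [p.IsPrime] (Q : Ideal S) [Q.IsPrime]
    (h1 : I.comap φ ≤ p) (h2 : p ≤ Q.comap φ) (h3 : I ≤ Q) : ∃ P : Ideal S, P.IsPrime ∧ I ≤ P ∧ P ≤ Q ∧ P.comap φ = p := by
  letI : Algebra (R ⧸ I.comap φ) (S ⧸ I) := (Ideal.quotientMap I φ le_rfl).toAlgebra
  haveI : Algebra.IsIntegral (R ⧸ I.comap φ) (S ⧸ I) := ⟨fun x => by
    obtain ⟨x, rfl⟩ := Ideal.Quotient.mk_surjective x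
    obtain ⟨q, hq, hqx⟩ := hφ x
    refine ⟨q.map (Ideal.Quotient.mk _), hq.map _, ?_⟩
    rw [Polynomial.eval₂_map]
    have e : (algebraMap (R ⧸ I.comap φ) (S ⧸ I)).comp (Ideal.Quotient.mk (I.comap φ)) = (Ideal.Quotient.mk I).comp φ :=
      RingHom.ext fun r => rfl
    rw [e, ← Polynomial.hom_eval₂, hqx, map_zero]⟩
  haveI : FaithfulSMul (R ⧸ I.comap φ) (S ⧸ I) :=
    (faithfulSMul_iff_algebraMap_injective _ _).2 (Ideal.quotientMap_injective (I := I) (f := φ))
  let π := Ideal.Quotient.mk (I.comap φ)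
  haveI hQ' : (Q.map (Ideal.Quotient.mk I)).IsPrime :=
    Ideal.map_isPrime_of_surjective Ideal.Quotient.mk_surjective (by rwa [Ideal.mk_ker])
  haveI hp' : (p.map π).IsPrime := Ideal.map_isPrime_of_surjective Ideal.Quotient.mk_surjective (by rwa [Ideal.mk_ker])
  have hcQ : (Q.map (Ideal.Quotient.mk I)).comap (Ideal.Quotient.mk I) = Q := by
    rw [Ideal.comap_map_of_surjective _ Ideal.Quotient.mk_surjective, ← RingHom.ker_eq_comap_bot, Ideal.mk_ker, sup_of_le_left h3]
  haveI : (Q.map (Ideal.Quotient.mk I)).LiesOver ((Q.map (Ideal.Quotient.mk I)).under (R ⧸ I.comap φ)) := ⟨rfl⟩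
  have hle : p.map π ≤ (Q.map (Ideal.Quotient.mk I)).under (R ⧸ I.comap φ) := by
    rw [Ideal.map_le_iff_le_comap, Ideal.under_def, Ideal.comap_comap]
    intro r hr
    show Ideal.quotientMap I φ le_rfl (Ideal.Quotient.mk _ r) ∈ Q.map (Ideal.Quotient.mk I)
    rw [Ideal.quotientMap_mk]
    exact Ideal.mem_map_of_mem _ (h2 hr)
  obtain ⟨P, hPQ, hP, hPp⟩ := Ideal.exists_ideal_le_liesOver_of_le (p := p.map π) (Q.map (Ideal.Quotient.mk I)) hle
  refine ⟨P.comap (Ideal.Quotient.mk I), inferInstance, ?_, (Ideal.comap_mono hPQ).trans hcQ.le, ?_⟩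
  · intro x hx
    rw [Ideal.mem_comap, Ideal.Quotient.eq_zero_iff_mem.2 hx]
    exact Ideal.zero_mem _
  · have e : p = (p.map π).comap π := by
      rw [Ideal.comap_map_of_surjective _ Ideal.Quotient.mk_surjective, ← RingHom.ker_eq_comap_bot, Ideal.mk_ker, sup_of_le_left h1]
    rw [e, hPp.over, Ideal.under_def, Ideal.comap_comap, Ideal.comap_comap]
    congr 1

theorem dim_quot {d h : ℕ} {A : Type u} [CommRing A] [Algebra k A] (φ : MvPolynomial (Fin d) k →ₐ[k] A)
    (hint : φ.toRingHom.IsIntegral) (q : Ideal A) (hq : q.comap φ = J k d h) :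
    ringKrullDim (A ⧸ q) = ((d - h : ℕ) : WithBot ℕ∞) := by
  have hle : J k d h ≤ q.comap φ.toRingHom := hq.ge
  letI : Algebra (MvPolynomial (Fin d) k ⧸ J k d h) (A ⧸ q) := (Ideal.quotientMap q φ.toRingHom hle).toAlgebra
  haveI : Algebra.IsIntegral (MvPolynomial (Fin d) k ⧸ J k d h) (A ⧸ q) := ⟨fun x => by
    obtain ⟨x, rfl⟩ := Ideal.Quotient.mk_surjective x
    obtain ⟨g, hg, hgx⟩ := hint x
    refine ⟨g.map (Ideal.Quotient.mk _), hg.map _, ?_⟩
    rw [Polynomial.eval₂_map, show (algebraMap (MvPolynomial (Fin d) k ⧸ J k d h) (A ⧸ q)).comp (Ideal.Quotient.mk (J k d h)) =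
      (Ideal.Quotient.mk q).comp φ.toRingHom from RingHom.ext fun r => rfl, ← Polynomial.hom_eval₂, hgx, map_zero]⟩
  rw [CommAlgDim.ringKrullDim_eq_of_integral (MvPolynomial (Fin d) k ⧸ J k d h) (A ⧸ q)
    (Ideal.quotientMap_injective' (I := q) (f := φ.toRingHom) (H := hle) hq.le), ringKrullDim_quot_J]

theorem exists_normalization {A : Type u} [CommRing A] [IsDomain A] [Algebra k A] [Algebra.FiniteType k A] (d : ℕ)
    (hd : ringKrullDim A = (d : WithBot ℕ∞)) (r : ℕ) (q : Fin r → PrimeSpectrum A) (hq : Monotone q) (h : Fin r → ℕ)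
    (hh : ∀ i, h i ≤ d) (hdim : ∀ i, ringKrullDim (A ⧸ (q i).asIdeal) = ((d - h i : ℕ) : WithBot ℕ∞)) :
    ∃ φ : MvPolynomial (Fin d) k →ₐ[k] A, φ.toRingHom.Finite ∧ Function.Injective φ ∧
      ∀ i, (q i).asIdeal.comap φ = J k d (h i) := by
  obtain ⟨s, g, hginj, hgfin⟩ := exists_finite_inj_algHom_of_fg k A
  obtain rfl : s = d := by
    letI := g.toRingHom.toAlgebra
    haveI : Algebra.IsIntegral (MvPolynomial (Fin s) k) A := ⟨hgfin.to_isIntegral⟩
    have e := CommAlgDim.ringKrullDim_eq_of_integral (MvPolynomial (Fin s) k) A hginj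
    rw [hd, MvPolynomial.ringKrullDim_of_isNoetherianRing, ringKrullDim_eq_zero_of_field, zero_add, Nat.card_fin] at e
    exact_mod_cast e.symm
  obtain ⟨ψ, h', hψ, hh', hc⟩ := exists_adapted s (fun i => (q i).asIdeal.comap g) (fun a b hab => Ideal.comap_mono (hq hab))
    fun i => Ideal.comap_ne_top _ (q i).isPrime.ne_top
  have hint : (g.comp ψ).toRingHom.IsIntegral := RingHom.IsIntegral.trans _ _ hψ hgfin.to_isIntegral
  refine ⟨g.comp ψ, ?_, hginj.comp (injective_of_integral ψ hψ), fun i => ?_⟩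
  · refine hint.to_finite (RingHom.FiniteType.of_comp_finiteType (f := algebraMap k (MvPolynomial (Fin s) k)) ?_)
    have e : (g.comp ψ).toRingHom.comp (algebraMap k (MvPolynomial (Fin s) k)) = algebraMap k A :=
      RingHom.ext fun x => (g.comp ψ).commutes x
    rw [e]
    exact RingHom.finiteType_algebraMap.mpr inferInstance
  · have e : (q i).asIdeal.comap (g.comp ψ) = J k s (h' i) := by rw [← hc i]; rfl
    have h1 := dim_quot (g.comp ψ) hint _ e
    rw [hdim i] at h1
    have h2 : s - h i = s - h' i := by exact_mod_cast h1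
    have := hh i; have := hh' i
    rw [e, show h' i = h i by omega]

theorem exists_chain {A : Type u} [CommRing A] [IsDomain A] [Algebra k A] (d : ℕ) (r : ℕ) (q : Fin r → PrimeSpectrum A)
    (hq : StrictMono q) (h : Fin r → ℕ) (hh : ∀ i, h i ≤ d) (φ : MvPolynomial (Fin d) k →ₐ[k] A)
    (hfin : φ.toRingHom.IsIntegral) (hinj : Function.Injective φ) (hc : ∀ i, (q i).asIdeal.comap φ = J k d (h i)) :
    ∃ Q : ℕ → PrimeSpectrum A, (∀ j, j ≤ d → (Q j).asIdeal.comap φ = J k d j) ∧
        (∀ j, j < d → Q j < Q (j + 1)) ∧ (∀ i, Q (h i) = q i) := by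
  classical
  letI := φ.toRingHom.toAlgebra
  haveI : Algebra.IsIntegral (MvPolynomial (Fin d) k) A := ⟨hfin⟩
  have hlt : ∀ i i', i < i' → h i < h i' := by
    intro i i' hii
    by_contra hle
    have h1 : (q i).asIdeal.comap φ < (q i').asIdeal.comap φ :=
      Ideal.IsIntegral.comap_lt_comap (R := MvPolynomial (Fin d) k) (hq hii)
    rw [hc, hc] at h1
    exact not_le_of_gt h1 (J_mono (not_lt.1 hle))
  have hmono : ∀ i i', h i ≤ h i' → q i ≤ q i' := fun i i' hle => by
    rcases le_or_gt i i' with h1 | h1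
    · exact hq.monotone h1
    · exact absurd (hlt i' i h1) (not_lt.2 hle)
  have base : ∀ j, j ≤ d → ∃ (b : PrimeSpectrum A) (hb : ℕ), hb ≤ j ∧ b.asIdeal.comap φ = J k d hb ∧
      (∀ i, h i ≤ j → q i ≤ b) ∧ ∀ c : PrimeSpectrum A, (∀ i, h i ≤ j → q i ≤ c) → b ≤ c := by
    intro j _
    by_cases he : ∃ i, h i ≤ j
    · let s : Finset (Fin r) := Finset.univ.filter fun i => h i ≤ j
      have hs : s.Nonempty := let ⟨i, hi⟩ := he; ⟨i, Finset.mem_filter.2 ⟨Finset.mem_univ _, hi⟩⟩
      refine ⟨q (s.max' hs), h (s.max' hs), (Finset.mem_filter.1 (s.max'_mem hs)).2, hc _,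
        fun i hi => hq.monotone (s.le_max' i (Finset.mem_filter.2 ⟨Finset.mem_univ _, hi⟩)),
        fun c hc' => hc' _ (Finset.mem_filter.1 (s.max'_mem hs)).2⟩
    · push Not at he
      refine ⟨⟨⊥, Ideal.bot_prime⟩, 0, Nat.zero_le _, ?_, fun i hi => absurd hi (not_le.2 (he i)), fun c _ => ?_⟩
      · rw [J_zero, eq_bot_iff]
        intro g hg
        exact (Submodule.mem_bot _).2 (hinj ((Ideal.mem_bot.1 hg).trans (map_zero _).symm))
      · exact (bot_le : (⊥ : Ideal A) ≤ c.asIdeal)
  have main : ∀ t j, j + t = d → ∃ Q : ℕ → PrimeSpectrum A,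
      (∀ l, j ≤ l → l ≤ d → (Q l).asIdeal.comap φ = J k d l) ∧ (∀ l, j ≤ l → l < d → Q l < Q (l + 1)) ∧
        (∀ i, h i ≤ j → q i ≤ Q j) ∧ (∀ i, j ≤ h i → Q (h i) = q i) := by
    intro t
    induction t with
    | zero =>
      intro j hj
      rw [add_zero] at hj
      subst hj
      by_cases he : ∃ i, h i = j
      · obtain ⟨i, hi⟩ := he
        refine ⟨fun _ => q i, fun l h1 h2 => by rw [show l = h i by omega, hc], fun l h1 h2 => by omega,
          fun i' hi' => hmono i' i (by omega), fun i' hi' => ?_⟩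
        have := hh i'
        exact le_antisymm (hmono i i' (by omega)) (hmono i' i (by omega))
      · push Not at he
        obtain ⟨b, hb, hbj, hbc, hbq, -⟩ := base j le_rfl
        haveI := b.isPrime
        obtain ⟨P, hPb, hP, hPc⟩ := Ideal.exists_ideal_over_prime_of_isIntegral (J k j j) b.asIdeal
          (show b.asIdeal.comap φ ≤ _ from hbc ▸ J_mono hbj)
        refine ⟨fun _ => ⟨P, hP⟩, fun l h1 h2 => ?_, fun l h1 h2 => by omega, fun i hi => (hbq i hi).trans hPb,
          fun i hi => absurd (le_antisymm (hh i) hi) (he i)⟩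
        obtain rfl : l = j := le_antisymm h2 h1
        exact hPc
    | succ t ih =>
      intro j hj
      obtain ⟨Q, hQ1, hQ2, hQ3, hQ4⟩ := ih (j + 1) (by omega)
      have hjd : j < d := by omega
      obtain ⟨P, hPc, hPle, hP3, hP4⟩ : ∃ P : PrimeSpectrum A, P.asIdeal.comap φ = J k d j ∧ P ≤ Q (j + 1) ∧
          (∀ i, h i ≤ j → q i ≤ P) ∧ ∀ i, h i = j → P = q i := by
        by_cases he : ∃ i, h i = j
        · obtain ⟨i, hi⟩ := he
          exact ⟨q i, hi ▸ hc i, hQ3 i (by omega), fun i' hi' => hmono i' i (by omega),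
            fun i' hi' => le_antisymm (hmono i i' (by omega)) (hmono i' i (by omega))⟩
        · push Not at he
          obtain ⟨b, hb, hbj, hbc, hbq, hbmin⟩ := base j hjd.le
          haveI := b.isPrime
          haveI := (Q (j + 1)).isPrime
          haveI : IsIntegrallyClosed (MvPolynomial (Fin d) k ⧸ b.asIdeal.comap φ.toRingHom) := by
            rw [show b.asIdeal.comap φ.toRingHom = J k d hb from hbc]
            infer_instance
          obtain ⟨P, hP, hbP, hPQ, hPc⟩ := exists_between φ.toRingHom hfin b.asIdeal (J k d j) (Q (j + 1)).asIdeal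
            (show b.asIdeal.comap φ ≤ _ from hbc ▸ J_mono hbj)
            (show _ ≤ (Q (j + 1)).asIdeal.comap φ from (hQ1 (j + 1) le_rfl (by omega)) ▸ J_mono (Nat.le_succ j))
            (hbmin _ fun i hi => hQ3 i (by omega))
          exact ⟨⟨P, hP⟩, hPc, hPQ, fun i hi => (hbq i hi).trans hbP, fun i hi => absurd hi (he i)⟩
      refine ⟨Function.update Q j P, fun l h1 h2 => ?_, fun l h1 h2 => ?_, fun i hi => ?_, fun i hi => ?_⟩
      · rcases h1.eq_or_lt with rfl | h1
        · rwa [Function.update_self]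
        · rw [Function.update_of_ne (by omega)]
          exact hQ1 l h1 h2
      · rw [Function.update_of_ne (show l + 1 ≠ j by omega)]
        rcases h1.eq_or_lt with rfl | h1
        · rw [Function.update_self]
          refine lt_of_le_of_ne hPle fun e => (J_lt (k := k) hjd).ne ?_
          rw [← hPc, e, hQ1 (j + 1) le_rfl (by omega)]
        · rw [Function.update_of_ne (by omega)]
          exact hQ2 l h1 h2
      · rw [Function.update_self]
        exact hP3 i hi
      · rcases hi.eq_or_lt with h1 | h1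
        · rw [← h1, Function.update_self]
          exact hP4 i h1.symm
        · rw [Function.update_of_ne (by omega)]
          exact hQ4 i h1
  obtain ⟨Q, h1, h2, -, h4⟩ := main d 0 (by omega)
  exact ⟨Q, fun j => h1 j (Nat.zero_le j), fun j => h2 j (Nat.zero_le j), fun i => h4 i (Nat.zero_le _)⟩

end NormChainLib
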